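import Cfsg.Agent.SporB.ON.Sub.J1.CheckL
import Cfsg.Agent.SporB.ON.Sub.J1.CheckR
import Cfsg.Agent.SporB.ON.Sub.J1.CheckP
import Cfsg.Agent.SporB.ON.Sub.M11.CheckL
import Cfsg.Agent.SporB.ON.Sub.M11.CheckR
import Cfsg.Agent.SporB.ON.Sub.M11.CheckP

/-!
Simple subgroups of orders 175560 and 7920 in the presented O'Nan group.
-/

set_option autoImplicit false
set_option maxRecDepth 100000

namespace Cfsg.Agent.CosetEnum.ON.Sub

theorem exists_J1 : ∃ K : Subgroup Gp, IsSimpleGroup K ∧ Nat.card K = 175560 := by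
  have hX : valid J1.X = true := by decide +kernel
  have hY : valid (J1.Lg.map (ex J1.X)) = true := valid_map hX _
  refine ⟨wsub J1.X, card_and_simple hX 175560 (by norm_num) ?_
    [(2, 3), (3, 1), (5, 1), (7, 1), (11, 1), (19, 1)] ?_ ?_ ?_⟩
  · have hR := coset_bound hX (flat_attained hY (by decide +kernel) J1.L_closed J1.L_tree)
      (show J1.R.getD 0 [] = [] by decide +kernel) (by decide +kernel) J1.tr_all
    rw [show J1.R.length = 266 by decide +kernel] at hR
    have hL := (flat_bound hY J1.L_closed).2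
    rw [show J1.Lk.length = 660 by decide +kernel] at hL
    calc _ ≤ 266 * _ := hR
      _ ≤ 266 * 660 := Nat.mul_le_mul_left _ hL
      _ = 175560 := by norm_num
  · intro t ht
    simp only [List.mem_cons, List.not_mem_nil, or_false] at ht
    rcases ht with rfl | rfl | rfl | rfl | rfl | rfl
    exacts [sylow_of_ok hX J1.ok8, sylow_of_ok hX J1.ok3, sylow_of_ok hX J1.ok5,
      sylow_of_ok hX J1.ok7, sylow_of_ok hX J1.ok11, sylow_of_ok hX J1.ok19]
  · intro c hc
    have h2 := hc (2, 3) (by simp)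
    have h3 := hc (3, 1) (by simp)
    have h5 := hc (5, 1) (by simp)
    have h7 := hc (7, 1) (by simp)
    have h11 := hc (11, 1) (by simp)
    have h19 := hc (19, 1) (by simp)
    norm_num at h2 h3 h5 h7 h11 h19
    have c1 := Nat.Coprime.mul_dvd_of_dvd_of_dvd (by norm_num : Nat.Coprime 8 3) h2 h3
    have c2 := Nat.Coprime.mul_dvd_of_dvd_of_dvd (by norm_num : Nat.Coprime (8 * 3) 5) c1 h5
    have c3 := Nat.Coprime.mul_dvd_of_dvd_of_dvd (by norm_num : Nat.Coprime (8 * 3 * 5) 7) c2 h7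
    have c4 := Nat.Coprime.mul_dvd_of_dvd_of_dvd
      (by norm_num : Nat.Coprime (8 * 3 * 5 * 7) 11) c3 h11
    exact Nat.Coprime.mul_dvd_of_dvd_of_dvd
      (by norm_num : Nat.Coprime (8 * 3 * 5 * 7 * 11) 19) c4 h19
  · intro p hp hpd
    rw [show (175560 : ℕ) = 2 * 2 * 2 * 3 * 5 * 7 * 11 * 19 by norm_num] at hpd
    simp only [hp.dvd_mul] at hpd
    have e2 := (Nat.prime_dvd_prime_iff_eq hp Nat.prime_two).mp
    have e3 := (Nat.prime_dvd_prime_iff_eq hp Nat.prime_three).mp
    have e5 := (Nat.prime_dvd_prime_iff_eq hp (by norm_num : Nat.Prime 5)).mp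
    have e7 := (Nat.prime_dvd_prime_iff_eq hp (by norm_num : Nat.Prime 7)).mp
    have e11 := (Nat.prime_dvd_prime_iff_eq hp (by norm_num : Nat.Prime 11)).mp
    have e19 := (Nat.prime_dvd_prime_iff_eq hp (by norm_num : Nat.Prime 19)).mp
    rcases hpd with ((((((h | h) | h) | h) | h) | h) | h) | h
    · exact ⟨(2, 3), by simp, (e2 h).symm, by rw [e2 h]; norm_num⟩
    · exact ⟨(2, 3), by simp, (e2 h).symm, by rw [e2 h]; norm_num⟩
    · exact ⟨(2, 3), by simp, (e2 h).symm, by rw [e2 h]; norm_num⟩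
    · exact ⟨(3, 1), by simp, (e3 h).symm, by rw [e3 h]; norm_num⟩
    · exact ⟨(5, 1), by simp, (e5 h).symm, by rw [e5 h]; norm_num⟩
    · exact ⟨(7, 1), by simp, (e7 h).symm, by rw [e7 h]; norm_num⟩
    · exact ⟨(11, 1), by simp, (e11 h).symm, by rw [e11 h]; norm_num⟩
    · exact ⟨(19, 1), by simp, (e19 h).symm, by rw [e19 h]; norm_num⟩

theorem exists_M11 : ∃ K : Subgroup Gp, IsSimpleGroup K ∧ Nat.card K = 7920 := by
  have hX : valid M11.X = true := by decide +kernel
  have hY : valid (M11.Lg.map (ex M11.X)) = true := valid_map hX _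
  refine ⟨wsub M11.X, card_and_simple hX 7920 (by norm_num) ?_
    [(2, 4), (3, 2), (5, 1), (11, 1)] ?_ ?_ ?_⟩
  · have hR := coset_bound hX (flat_attained hY (by decide +kernel) M11.L_closed M11.L_tree)
      (show M11.R.getD 0 [] = [] by decide +kernel) (by decide +kernel) M11.tr_all
    rw [show M11.R.length = 12 by decide +kernel] at hR
    have hL := (flat_bound hY M11.L_closed).2
    rw [show M11.Lk.length = 660 by decide +kernel] at hL
    calc _ ≤ 12 * _ := hR
      _ ≤ 12 * 660 := Nat.mul_le_mul_left _ hL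
      _ = 7920 := by norm_num
  · intro t ht
    simp only [List.mem_cons, List.not_mem_nil, or_false] at ht
    rcases ht with rfl | rfl | rfl | rfl
    exacts [sylow_of_ok hX M11.ok16, sylow_of_ok hX M11.ok9, sylow_of_ok hX M11.ok5,
      sylow_of_ok hX M11.ok11]
  · intro c hc
    have h2 := hc (2, 4) (by simp)
    have h3 := hc (3, 2) (by simp)
    have h5 := hc (5, 1) (by simp)
    have h11 := hc (11, 1) (by simp)
    norm_num at h2 h3 h5 h11
    have c1 := Nat.Coprime.mul_dvd_of_dvd_of_dvd (by norm_num : Nat.Coprime 16 9) h2 h3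
    have c2 := Nat.Coprime.mul_dvd_of_dvd_of_dvd (by norm_num : Nat.Coprime (16 * 9) 5) c1 h5
    exact Nat.Coprime.mul_dvd_of_dvd_of_dvd (by norm_num : Nat.Coprime (16 * 9 * 5) 11) c2 h11
  · intro p hp hpd
    rw [show (7920 : ℕ) = 2 ^ 4 * 3 ^ 2 * 5 * 11 by norm_num] at hpd
    simp only [hp.dvd_mul] at hpd
    have e2 := fun (h : p ∣ 2 ^ 4) => (Nat.prime_dvd_prime_iff_eq hp Nat.prime_two).mp (hp.dvd_of_dvd_pow h)
    have e3 := fun (h : p ∣ 3 ^ 2) => (Nat.prime_dvd_prime_iff_eq hp Nat.prime_three).mp (hp.dvd_of_dvd_pow h)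
    have e5 := (Nat.prime_dvd_prime_iff_eq hp (by norm_num : Nat.Prime 5)).mp
    have e11 := (Nat.prime_dvd_prime_iff_eq hp (by norm_num : Nat.Prime 11)).mp
    rcases hpd with ((h | h) | h) | h
    · exact ⟨(2, 4), by simp, (e2 h).symm, by rw [e2 h]; norm_num⟩
    · exact ⟨(3, 2), by simp, (e3 h).symm, by rw [e3 h]; norm_num⟩
    · exact ⟨(5, 1), by simp, (e5 h).symm, by rw [e5 h]; norm_num⟩
    · exact ⟨(11, 1), by simp, (e11 h).symm, by rw [e11 h]; norm_num⟩

end Cfsg.Agent.CosetEnum.ON.Sub
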