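import Cfsg.Agent.Lib.CosetEnum.Glue
import Mathlib.GroupTheory.Sylow
import Mathlib.GroupTheory.Subgroup.Simple

/-!
A finite subgroup is simple if every nontrivial element of one chosen Sylow subgroup for each prime has
full normal closure.
-/

set_option autoImplicit false

namespace Cfsg.Agent.CosetEnum.ON.Sub

variable {G : Type} [Group G]

theorem isSimple_of_sylows (K : Subgroup G) [Finite K] (gens : Set G) (hK : K ≤ Subgroup.closure gens)
    (hc : 1 < Nat.card K)
    (h : ∀ p, p.Prime → p ∣ Nat.card K → ∃ P : Subgroup G, P ≤ K ∧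
      Nat.card P = p ^ (Nat.card K).factorization p ∧
      ∀ z ∈ P, z ≠ 1 → ∀ N : Subgroup G, z ∈ N → (∀ k ∈ K, ∀ x ∈ N, k * x * k⁻¹ ∈ N) → gens ⊆ N) :
    IsSimpleGroup K := by
  haveI : Nontrivial K := Finite.one_lt_card_iff_nontrivial.mp hc
  refine ⟨fun N hN => ?_⟩
  rcases eq_or_ne N ⊥ with hb | hb
  · exact Or.inl hb
  right
  have hN1 : Nat.card N ≠ 1 := fun h1 => hb (Subgroup.eq_bot_of_card_eq N h1)
  obtain ⟨p, hp, hpd⟩ := Nat.exists_prime_and_dvd hN1
  haveI : Fact p.Prime := ⟨hp⟩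
  obtain ⟨x, hx⟩ := exists_prime_orderOf_dvd_card' (G := N) p hpd
  obtain ⟨P, hPK, hPc, hP⟩ := h p hp (hpd.trans (Subgroup.card_subgroup_dvd_card N))
  let S : Sylow p K := Sylow.ofCard (P.subgroupOf K)
    (by rw [Nat.card_congr (Subgroup.subgroupOfEquivOfLe hPK).toEquiv, hPc])
  have hxo : orderOf (x : K) = p := by rw [Subgroup.orderOf_coe, hx]
  have hz : IsPGroup p (Subgroup.zpowers (x : K)) := by
    refine IsPGroup.of_card (n := 1) ?_
    rw [Nat.card_zpowers, hxo, pow_one]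
  obtain ⟨T, hT⟩ := hz.exists_le_sylow
  obtain ⟨g, hg⟩ := MulAction.exists_smul_eq K T S
  have hmem : g * (x : K) * g⁻¹ ∈ S := by
    rw [← hg]
    show g * (x : K) * g⁻¹ ∈ ((g • T : Sylow p K) : Subgroup K)
    rw [Sylow.coe_subgroup_smul]
    exact Subgroup.mem_pointwise_smul_iff_inv_smul_mem.mpr
      (by simpa [MulAut.smul_def, mul_assoc] using hT (Subgroup.mem_zpowers _))
  have hzP : ((g * (x : K) * g⁻¹ : K) : G) ∈ P := hmem
  have hne : ((g * (x : K) * g⁻¹ : K) : G) ≠ 1 := by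
    intro he
    have h1 : (x : K) = 1 := conj_eq_one_iff.mp (Subtype.ext he)
    rw [h1, orderOf_one] at hxo
    exact hp.one_lt.ne hxo
  have key := hP _ hzP hne (N.map K.subtype) ⟨_, hN.conj_mem _ x.2 g, rfl⟩ (by
    rintro k hk y ⟨n, hn, rfl⟩
    exact ⟨_, hN.conj_mem n hn ⟨k, hk⟩, rfl⟩)
  rw [eq_top_iff]
  intro y _
  obtain ⟨n, hn, hny⟩ := (Subgroup.closure_le _).mpr key (hK y.2)
  exact (Subtype.ext hny : n = y) ▸ hn

/-- A finite set that contains `1` and is closed under right multiplication contains the closure. -/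
theorem closure_le_of_closed [Finite G] (S : Set G) (gens : Set G) (h1 : (1 : G) ∈ S)
    (hs : ∀ x ∈ S, ∀ s ∈ gens, x * s ∈ S) : (Subgroup.closure gens : Set G) ⊆ S := by
  intro g hg
  rw [SetLike.mem_coe, ← Subgroup.mem_toSubmonoid, Subgroup.closure_toSubmonoid_of_finite] at hg
  suffices ∀ x ∈ S, x * g ∈ S by simpa using this 1 h1
  induction hg using Submonoid.closure_induction with
  | mem a ha => exact fun x hx => hs x hx a ha
  | one => intro x hx; rwa [mul_one]
  | mul a b _ _ iha ihb => intro x hx; rw [← mul_assoc]; exact ihb _ (iha x hx)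

end Cfsg.Agent.CosetEnum.ON.Sub
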