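import Cfsg.Agent.SporB.ON.Sub.Keys
import Cfsg.Agent.SporB.ON.Sub.Criterion

/-!
Certificates for the order and simplicity of a subgroup generated by words.
-/

set_option autoImplicit false
set_option maxRecDepth 100000

namespace Cfsg.Agent.CosetEnum.ON.Sub

/-- A word in the chosen generators, written in letters. -/
def ex (X : List (List ℕ)) (w : List ℕ) : List ℕ := (w.map fun i => X.getD i []).flatten

/-- All letters are valid. -/
def valid (X : List (List ℕ)) : Bool := X.all fun W => W.all fun l => Nat.blt l 8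

/-- The subgroup generated by some words. -/
def wsub (X : List (List ℕ)) : Subgroup Gp := Subgroup.closure {g | g ∈ X.map (evalWord val)}

theorem valid_ex {X : List (List ℕ)} (hX : valid X = true) (w : List ℕ) : ∀ l ∈ ex X w, l < 8 := by
  intro l hl
  simp only [valid, List.all_eq_true] at hX
  simp only [ex, List.mem_flatten, List.mem_map] at hl
  obtain ⟨W, ⟨i, -, rfl⟩, hlW⟩ := hl
  by_cases hi : i < X.length
  · rw [List.getD_eq_getElem _ _ hi] at hlW
    exact Nat.le_of_ble_eq_true (hX _ (List.getElem_mem hi) l hlW)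
  · rw [List.getD_eq_default _ _ (by omega)] at hlW
    exact absurd hlW List.not_mem_nil

theorem valid_map {X : List (List ℕ)} (hX : valid X = true) (Y : List (List ℕ)) :
    valid (Y.map (ex X)) = true := by
  simp only [valid, List.all_eq_true, List.mem_map]
  rintro _ ⟨w, -, rfl⟩ l hl
  exact Nat.ble_eq_true_of_le (valid_ex hX w l hl)

theorem ex_mem (X : List (List ℕ)) : ∀ w : List ℕ, evalWord val (ex X w) ∈ wsub X
  | [] => one_mem _
  | i :: w => by
    show evalWord val (X.getD i [] ++ ex X w) ∈ wsub X
    rw [evalWord_append]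
    refine mul_mem ?_ (ex_mem X w)
    by_cases hi : i < X.length
    · rw [List.getD_eq_getElem _ _ hi]
      exact Subgroup.subset_closure (List.mem_map_of_mem (List.getElem_mem hi))
    · rw [List.getD_eq_default _ _ (by omega)]
      exact one_mem _

/-- A list of keys is closed under some words, with a table of the images. -/
noncomputable def closedT (X : List (List ℕ)) (keys tbl : List ℕ) : Bool :=
  Nat.beq (keys.getD 0 0) base && Nat.blt 0 keys.length &&
    allRange (fun k => allRange (fun s =>
      Nat.blt (tbl.getD (k * X.length + s) 0) keys.length &&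
        Nat.beq (run (keys.getD k 0) (X.getD s [])) (keys.getD (tbl.getD (k * X.length + s) 0) 0))
      0 X.length) 0 keys.length

theorem flat_bound {X : List (List ℕ)} (hX : valid X = true) {keys tbl : List ℕ}
    (h : closedT X keys tbl = true) :
    (∀ g ∈ wsub X, key g ∈ keys) ∧ Nat.card (wsub X) ≤ keys.length := by
  haveI := finite
  simp only [closedT, Bool.and_eq_true] at h
  have hsub : (wsub X : Set Gp) ⊆ {g | key g ∈ keys} := by
    refine closure_le_of_closed _ _ ?_ ?_
    · show key 1 ∈ keys
      rw [key_one, ← Nat.eq_of_beq_eq_true h.1.1,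
        List.getD_eq_getElem _ _ (Nat.le_of_ble_eq_true h.1.2)]
      exact List.getElem_mem _
    · intro x hx s hs
      obtain ⟨W, hW, rfl⟩ := List.mem_map.mp hs
      obtain ⟨k, hk, hkx⟩ := List.getElem_of_mem (show key x ∈ keys from hx)
      obtain ⟨j, hj, rfl⟩ := List.getElem_of_mem hW
      have h' := allRange_spec (allRange_spec h.2 k (Nat.zero_le _) (by omega)) j (Nat.zero_le _)
        (by omega)
      simp only [Bool.and_eq_true] at h'
      show key (x * evalWord val X[j]) ∈ keys
      have e := Nat.eq_of_beq_eq_true h'.2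
      rw [List.getD_eq_getElem keys _ hk, hkx, List.getD_eq_getElem X _ hj,
        run_key x (fun l hl => Nat.le_of_ble_eq_true
          (List.all_eq_true.mp (List.all_eq_true.mp hX _ (List.getElem_mem hj)) l hl))] at e
      rw [e, List.getD_eq_getElem _ _ (Nat.le_of_ble_eq_true h'.1)]
      exact List.getElem_mem _
  refine ⟨fun g hg => hsub hg, ?_⟩
  classical
  calc Nat.card (wsub X) = (wsub X : Set Gp).ncard := (Nat.card_coe_set_eq _)
    _ ≤ (keys.toFinset : Set ℕ).ncard := Set.ncard_le_ncard_of_injOn key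
        (fun g hg => Finset.mem_coe.mpr (List.mem_toFinset.mpr (hsub hg)))
        (fun a _ b _ e => key_inj e) (Finset.finite_toSet _)
    _ ≤ keys.length := by rw [Set.ncard_coe_finset]; exact keys.toFinset_card_le

/-- Every key in the list is reached from the first one. -/
noncomputable def treeOK (X : List (List ℕ)) (keys tbl par : List ℕ) : Bool :=
  allRange (fun k => Nat.beq k 0 ||
    (Nat.blt (par.getD k 0 / X.length) k && Nat.beq (tbl.getD (par.getD k 0) 0) k)) 0 keys.length

theorem flat_attained {X : List (List ℕ)} (hX : valid X = true) (hm : 0 < X.length)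
    {keys tbl par : List ℕ}
    (h : closedT X keys tbl = true) (ht : treeOK X keys tbl par = true) :
    ∀ k, k < keys.length → ∃ g ∈ wsub X, key g = keys.getD k 0 := by
  simp only [closedT, Bool.and_eq_true] at h
  intro k
  induction k using Nat.strong_induction_on with
  | _ k ih =>
    intro hk
    rcases Nat.eq_zero_or_pos k with rfl | hpos
    · exact ⟨1, one_mem _, key_one.trans (Nat.eq_of_beq_eq_true h.1.1).symm⟩
    have h' := allRange_spec ht k (Nat.zero_le _) (by omega)
    simp only [Bool.or_eq_true, Bool.and_eq_true] at h'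
    rcases h' with h' | ⟨h1, h2⟩
    · have := Nat.eq_of_beq_eq_true h'; omega
    have h1 : par.getD k 0 / X.length < k := Nat.le_of_ble_eq_true h1
    obtain ⟨g, hg, hgk⟩ := ih _ h1 (by omega)
    have hs : par.getD k 0 % X.length < X.length := Nat.mod_lt _ hm
    have h3 := allRange_spec (allRange_spec h.2 (par.getD k 0 / X.length) (Nat.zero_le _) (by omega))
      (par.getD k 0 % X.length) (Nat.zero_le _) (by omega)
    simp only [Bool.and_eq_true] at h3
    have e := Nat.eq_of_beq_eq_true h3.2
    rw [show par.getD k 0 / X.length * X.length + par.getD k 0 % X.length = par.getD k 0 from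
      Nat.div_add_mod' _ _, Nat.eq_of_beq_eq_true h2, ← hgk, List.getD_eq_getElem X _ hs] at e
    refine ⟨g * evalWord val X[par.getD k 0 % X.length],
      mul_mem hg (Subgroup.subset_closure (List.mem_map_of_mem (List.getElem_mem hs))), ?_⟩
    rw [← run_key g fun l hl => Nat.le_of_ble_eq_true
      (List.all_eq_true.mp (List.all_eq_true.mp hX _ (List.getElem_mem hs)) l hl), e]

/-- The transversal check at one index. -/
noncomputable def checkCoset (X R : List (List ℕ)) (keys : List ℕ) (tr : List (ℕ × ℕ)) (i : ℕ) :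
    Bool :=
  allRange (fun s =>
    Nat.blt (tr.getD (i * X.length + s) (0, 0)).1 R.length &&
      Nat.blt (tr.getD (i * X.length + s) (0, 0)).2 keys.length &&
      Nat.beq (run base (ex X (R.getD i []) ++ X.getD s []))
        (run (keys.getD (tr.getD (i * X.length + s) (0, 0)).2 0)
          (ex X (R.getD (tr.getD (i * X.length + s) (0, 0)).1 [])))) 0 X.length

theorem coset_bound {X Y R : List (List ℕ)} {keys : List ℕ} {tr : List (ℕ × ℕ)}
    (hX : valid X = true)
    (hY : ∀ k, k < keys.length → ∃ g ∈ wsub Y, key g = keys.getD k 0)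
    (hR : R.getD 0 [] = []) (hR0 : 0 < R.length)
    (h : ∀ i, i < R.length → checkCoset X R keys tr i = true) :
    Nat.card (wsub X) ≤ R.length * Nat.card (wsub Y) := by
  haveI := finite
  let S : Set Gp :=
    Set.range fun t : Fin R.length × wsub Y => (t.2 : Gp) * evalWord val (ex X (R.getD t.1 []))
  have hsub : (wsub X : Set Gp) ⊆ S := by
    refine closure_le_of_closed _ _ ⟨(⟨0, hR0⟩, 1), by
      show (1 : Gp) * evalWord val (ex X (R.getD 0 [])) = 1
      rw [hR, one_mul]
      rfl⟩ ?_
    rintro _ ⟨⟨i, l⟩, rfl⟩ s hs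
    obtain ⟨W, hW, rfl⟩ := List.mem_map.mp hs
    obtain ⟨j, hj, rfl⟩ := List.getElem_of_mem hW
    have h' := allRange_spec (h i i.2) j (Nat.zero_le _)
      (by omega)
    simp only [Bool.and_eq_true] at h'
    obtain ⟨g, hg, hgk⟩ := hY _ (Nat.le_of_ble_eq_true h'.1.2)
    have e := Nat.eq_of_beq_eq_true h'.2
    have hW8 : ∀ l ∈ X[j], l < 8 := fun l hl => Nat.le_of_ble_eq_true
      (List.all_eq_true.mp (List.all_eq_true.mp hX _ (List.getElem_mem hj)) l hl)
    rw [List.getD_eq_getElem X _ hj,
      run_base (fun x hx => (List.mem_append.mp hx).elim (valid_ex hX _ x) (hW8 x)),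
      ← hgk, run_key g (valid_ex hX _)] at e
    have e' := key_inj e
    rw [evalWord_append] at e'
    refine ⟨(⟨_, Nat.le_of_ble_eq_true h'.1.1⟩, l * ⟨g, hg⟩), ?_⟩
    simp only [Subgroup.coe_mul]
    rw [mul_assoc, ← e', ← mul_assoc]
  calc Nat.card (wsub X) = (wsub X : Set Gp).ncard := (Nat.card_coe_set_eq _)
    _ ≤ S.ncard := Set.ncard_le_ncard hsub (Set.toFinite _)
    _ ≤ Nat.card (Fin R.length × wsub Y) := by
        rw [← Nat.card_coe_set_eq]; exact Finite.card_range_le _
    _ = R.length * Nat.card (wsub Y) := by rw [Nat.card_prod, Nat.card_fin]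

/-- The keys of a short list of elements are distinct and closed under multiplication. -/
noncomputable def closedList (X ws : List (List ℕ)) : Bool :=
  (ws.map fun w => run base (ex X w)).Nodup &&
    (ws.map fun w => run base (ex X w)).contains base &&
    ws.all fun u => ws.all fun v => (ws.map fun w => run base (ex X w)).contains
      (run base (ex X u ++ ex X v))

theorem list_subgroup {X ws : List (List ℕ)} (hX : valid X = true) (h : closedList X ws = true) :
    ∃ P : Subgroup Gp, P ≤ wsub X ∧ Nat.card P = ws.length ∧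
      ∀ z ∈ P, ∃ w ∈ ws, z = evalWord val (ex X w) := by
  haveI := finite
  classical
  simp only [closedList, Bool.and_eq_true, decide_eq_true_eq, List.all_eq_true,
    List.contains_iff_mem] at h
  let E : List Gp := ws.map fun w => evalWord val (ex X w)
  have hkeys : E.map key = ws.map fun w => run base (ex X w) := by
    rw [List.map_map]
    exact List.map_congr_left fun w _ => (run_base (valid_ex hX w)).symm
  have hmem : ∀ g, key g ∈ ws.map (fun w => run base (ex X w)) → g ∈ E := by
    intro g hg
    rw [← hkeys] at hg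
    obtain ⟨a, ha, hga⟩ := List.mem_map.mp hg
    exact key_inj hga ▸ ha
  let P : Subgroup Gp :=
    { carrier := {g | g ∈ E}
      one_mem' := hmem 1 (key_one ▸ h.1.2)
      mul_mem' := by
        rintro a b ha hb
        obtain ⟨u, hu, rfl⟩ := List.mem_map.mp ha
        obtain ⟨v, hv, rfl⟩ := List.mem_map.mp hb
        refine hmem _ ?_
        rw [← evalWord_append, ← run_base fun x hx =>
          (List.mem_append.mp hx).elim (valid_ex hX u x) (valid_ex hX v x)]
        exact h.2 u hu v hv
      inv_mem' := by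
        intro a ha
        have hm : ∀ n : ℕ, a ^ n ∈ E := by
          intro n
          induction n with
          | zero => rw [pow_zero]; exact hmem 1 (key_one ▸ h.1.2)
          | succ n ih =>
            rw [pow_succ]
            obtain ⟨u, hu, e1⟩ := List.mem_map.mp ih
            obtain ⟨v, hv, e2⟩ := List.mem_map.mp (show a ∈ E from ha)
            refine hmem _ ?_
            rw [← e1, ← e2, ← evalWord_append, ← run_base fun x hx =>
              (List.mem_append.mp hx).elim (valid_ex hX u x) (valid_ex hX v x)]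
            exact h.2 u hu v hv
        show a⁻¹ ∈ E
        rw [inv_eq_of_mul_eq_one_right (show a * a ^ (orderOf a - 1) = 1 by
          rw [← pow_succ', Nat.sub_add_cancel (orderOf_pos a), pow_orderOf_eq_one])]
        exact hm _ }
  refine ⟨P, ?_, ?_, ?_⟩
  · intro g hg
    obtain ⟨w, -, rfl⟩ := List.mem_map.mp (show g ∈ E from hg)
    exact ex_mem X w
  · have hnd : E.Nodup := List.Nodup.of_map key (hkeys ▸ h.1.1)
    calc Nat.card P = (E.toFinset : Set Gp).ncard := by
          rw [List.coe_toFinset]; exact Nat.card_coe_set_eq _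
      _ = ws.length := by
          rw [Set.ncard_coe_finset, List.toFinset_card_of_nodup hnd, List.length_map]
  · intro z hz
    obtain ⟨w, hw, e⟩ := List.mem_map.mp (show z ∈ E from hz)
    exact ⟨w, hw, e.symm⟩

/-- For every generator, a product of conjugates of `z` equal to it. -/
noncomputable def spans (X : List (List ℕ)) (z : List ℕ) (C : List (List (List ℕ × List ℕ))) :
    Bool :=
  Nat.beq C.length X.length && allRange (fun s =>
    (C.getD s []).all (fun c => Nat.beq (run base (ex X c.1 ++ ex X c.2)) base) &&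
      Nat.beq (run base ((C.getD s []).map fun c => ex X c.1 ++ ex X z ++ ex X c.2).flatten)
        (run base (X.getD s []))) 0 X.length

theorem spans_sub {X : List (List ℕ)} (hX : valid X = true) {z : List ℕ}
    {C : List (List (List ℕ × List ℕ))} (h : spans X z C = true) (N : Subgroup Gp)
    (hz : evalWord val (ex X z) ∈ N)
    (hN : ∀ k ∈ wsub X, ∀ x ∈ N, k * x * k⁻¹ ∈ N) :
    {g | g ∈ X.map (evalWord val)} ⊆ (N : Set Gp) := by
  rintro g hg
  obtain ⟨W, hW, rfl⟩ := List.mem_map.mp hg
  obtain ⟨s, hs, rfl⟩ := List.getElem_of_mem hW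
  simp only [spans, Bool.and_eq_true] at h
  have h' := allRange_spec h.2 s (Nat.zero_le _) (by omega)
  simp only [Bool.and_eq_true, List.all_eq_true] at h'
  have hv : ∀ (l : List (List ℕ × List ℕ)),
      ∀ x ∈ (l.map fun c => ex X c.1 ++ ex X z ++ ex X c.2).flatten, x < 8 := by
    intro l x hx
    simp only [List.mem_flatten, List.mem_map] at hx
    obtain ⟨_, ⟨c, -, rfl⟩, hx⟩ := hx
    simp only [List.mem_append] at hx
    rcases hx with (hx | hx) | hx <;> exact valid_ex hX _ x hx
  have hXs : ∀ l ∈ X[s], l < 8 := fun l hl => Nat.le_of_ble_eq_true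
    (List.all_eq_true.mp (List.all_eq_true.mp hX _ (List.getElem_mem hs)) l hl)
  have e := Nat.eq_of_beq_eq_true h'.2
  rw [List.getD_eq_getElem X _ hs, run_base (hv _), run_base hXs] at e
  show evalWord val X[s] ∈ N
  rw [← key_inj e]
  have hc : ∀ c ∈ C.getD s [], evalWord val (ex X c.2) = (evalWord val (ex X c.1))⁻¹ := by
    intro c hc
    have e := Nat.eq_of_beq_eq_true (h'.1 c hc)
    rw [run_base (fun x hx => (List.mem_append.mp hx).elim (valid_ex hX _ x) (valid_ex hX _ x)),
      ← key_one] at e
    have e' := key_inj e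
    rw [evalWord_append] at e'
    exact eq_inv_of_mul_eq_one_right e'
  generalize C.getD s [] = L at hc
  induction L with
  | nil => exact one_mem _
  | cons c L ih =>
    rw [List.map_cons, List.flatten_cons, evalWord_append]
    refine mul_mem ?_ (ih fun c' hc' => hc c' (List.mem_cons_of_mem _ hc'))
    rw [evalWord_append, evalWord_append, hc c List.mem_cons_self]
    exact hN _ (ex_mem X c.1) _ hz

/-- The certificate data of a Sylow subgroup. -/
noncomputable def sylowOK (X ws : List (List ℕ)) (C : List (List (List (List ℕ × List ℕ)))) :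
    Bool :=
  closedList X ws && allRange (fun i => Nat.beq (run base (ex X (ws.getD i []))) base ||
    spans X (ws.getD i []) (C.getD i [])) 0 ws.length

theorem sylow_of_ok {X ws : List (List ℕ)} (hX : valid X = true)
    {C : List (List (List (List ℕ × List ℕ)))} (h : sylowOK X ws C = true) :
    ∃ P : Subgroup Gp, P ≤ wsub X ∧ Nat.card P = ws.length ∧
      ∀ z ∈ P, z ≠ 1 → ∀ N : Subgroup Gp, z ∈ N → (∀ k ∈ wsub X, ∀ x ∈ N, k * x * k⁻¹ ∈ N) →
        {g | g ∈ X.map (evalWord val)} ⊆ (N : Set Gp) := by
  simp only [sylowOK, Bool.and_eq_true] at h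
  obtain ⟨P, h1, h2, h3⟩ := list_subgroup hX h.1
  refine ⟨P, h1, h2, fun z hz hne N hzN hN => ?_⟩
  obtain ⟨w, hw, rfl⟩ := h3 z hz
  obtain ⟨i, hi, rfl⟩ := List.getElem_of_mem hw
  have h' := allRange_spec h.2 i (Nat.zero_le _) (by omega)
  rw [Bool.or_eq_true, List.getD_eq_getElem ws _ hi] at h'
  rcases h' with h' | h'
  · refine absurd (key_inj ?_) hne
    rw [← run_base (valid_ex hX _), key_one]
    exact Nat.eq_of_beq_eq_true h'
  · exact spans_sub hX h' N hzN hN

theorem factorization_eq {n p e : ℕ} (hp : p.Prime) (hn : n ≠ 0) (h1 : p ^ e ∣ n)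
    (h2 : ¬p ^ (e + 1) ∣ n) : n.factorization p = e := by
  rw [hp.pow_dvd_iff_le_factorization hn] at h1 h2
  omega

/-- Assemble: upper bound, Sylow subgroups, simplicity. -/
theorem card_and_simple {X : List (List ℕ)} (hX : valid X = true) (n : ℕ) (hn : 1 < n)
    (hle : Nat.card (wsub X) ≤ n)
    (syl : List (ℕ × ℕ))
    (hP : ∀ t ∈ syl, ∃ P : Subgroup Gp, P ≤ wsub X ∧ Nat.card P = t.1 ^ t.2 ∧
      ∀ z ∈ P, z ≠ 1 → ∀ N : Subgroup Gp, z ∈ N → (∀ k ∈ wsub X, ∀ x ∈ N, k * x * k⁻¹ ∈ N) →
        {g | g ∈ X.map (evalWord val)} ⊆ (N : Set Gp))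
    (hdvd : ∀ c, (∀ t ∈ syl, t.1 ^ t.2 ∣ c) → n ∣ c)
    (hprimes : ∀ p, p.Prime → p ∣ n → ∃ t ∈ syl, t.1 = p ∧ p ^ t.2 ∣ n ∧ ¬p ^ (t.2 + 1) ∣ n) :
    IsSimpleGroup (wsub X) ∧ Nat.card (wsub X) = n := by
  haveI := finite
  have hc : Nat.card (wsub X) = n := by
    refine le_antisymm hle (Nat.le_of_dvd Nat.card_pos (hdvd _ fun t ht => ?_))
    obtain ⟨P, h1, h2, -⟩ := hP t ht
    exact h2 ▸ Subgroup.card_dvd_of_le h1
  refine ⟨isSimple_of_sylows (wsub X) _ le_rfl (by omega) fun p hp hpd => ?_, hc⟩
  rw [hc] at hpd ⊢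
  obtain ⟨t, ht, rfl, h1, h2⟩ := hprimes p hp hpd
  obtain ⟨P, hP1, hP2, hP3⟩ := hP t ht
  exact ⟨P, hP1, by rw [hP2, factorization_eq hp (by omega) h1 h2], hP3⟩

end Cfsg.Agent.CosetEnum.ON.Sub
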