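import Cfsg.Agent.SporB.ON.Base

/-!
An element of the presented O'Nan group is fixed by the images of three points.
-/

set_option autoImplicit false
set_option maxRecDepth 100000

namespace Cfsg.Agent.CosetEnum.ON.Sub

/-- The second base point. -/
noncomputable def ptA : Pt := ⟨Rep.oAPt 0, Nat.lt_of_lt_of_le (Nat.lt_succ_self _) (show Rep.oAPt 0 + 1 ≤ 122760 by decide +kernel)⟩

/-- The third base point. -/
noncomputable def ptB : Pt := ⟨Rep.oBPt 0, Nat.lt_of_lt_of_le (Nat.lt_succ_self _) (show Rep.oBPt 0 + 1 ≤ 122760 by decide +kernel)⟩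

theorem faithful3 {g : Gp} (h0 : hom g 0 = 0) (hA : hom g ptA = ptA) (hB : hom g ptB = ptB) :
    g = 1 := by
  obtain ⟨p, hp, h1⟩ := list_bound (ls := selH) (by decide) Rep.listA (by norm_num)
  obtain ⟨q, hq, h2⟩ := list_bound (ls := [2, 3, 4, 5]) (by decide) Rep.listB (by norm_num)
  have hpA : p = ptA := Fin.ext hp
  have hqB : q = ptB := Fin.ext hq
  set A := (Glue.gsub val selH).map hom ⊓ MulAction.stabilizer (Equiv.Perm Pt) p with hAd
  set B := (Glue.gsub val [2, 3, 4, 5]).map hom with hBd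
  have hle : B ≤ A := by
    refine le_inf (Subgroup.map_mono (Glue.gsub_mono _ (by decide))) ?_
    rw [hBd, Glue.gsub, MonoidHom.map_closure, Subgroup.closure_le]
    rintro _ ⟨g, hg, rfl⟩
    obtain ⟨l, hl, rfl⟩ := List.mem_map.mp (show g ∈ [2, 3, 4, 5].map val from hg)
    have h8 : l < 8 := (by decide : ∀ l ∈ [2, 3, 4, 5], l < 8) l hl
    rw [SetLike.mem_coe, MulAction.mem_stabilizer_iff, hom_val h8, Equiv.Perm.smul_def,
      Equiv.Perm.inv_eq_iff_eq]
    apply Fin.ext
    rw [perm_apply h8, hp]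
    exact (Nat.eq_of_beq_eq_true (List.all_eq_true.mp Rep.fixA l hl)).symm
  haveI := finite
  have hH : Nat.card (H.map hom) ≤ 3753792 :=
    (Nat.card_le_card_of_surjective _ (hom.subgroupMap_surjective H)).trans card_H_le.2
  have hA' : Nat.card A ≤ 672 := by
    have : 5586 * Nat.card A ≤ 3753792 := h1.trans hH
    omega
  have hBC : 0 < Nat.card (B ⊓ MulAction.stabilizer (Equiv.Perm Pt) q : Subgroup (Equiv.Perm Pt)) :=
    Nat.card_pos
  have hBle := Nat.le_of_dvd Nat.card_pos (Subgroup.card_dvd_of_le hle)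
  have hC : Nat.card (B ⊓ MulAction.stabilizer (Equiv.Perm Pt) q : Subgroup (Equiv.Perm Pt)) = 1 := by
    have : 672 * Nat.card (B ⊓ MulAction.stabilizer (Equiv.Perm Pt) q : Subgroup (Equiv.Perm Pt)) ≤
        672 := h2.trans (hBle.trans hA')
    omega
  have hBA : B = A := by
    refine Subgroup.eq_of_le_of_card_ge hle ?_
    have : 672 * 1 ≤ Nat.card B := hC ▸ h2
    omega
  have hgH : g ∈ H := by rw [H_stab.1, mem_stab]; exact h0
  have hgA : hom g ∈ B := by
    rw [hBA]
    exact ⟨Subgroup.mem_map_of_mem _ hgH, by rw [hpA]; exact hA⟩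
  have hg1 : hom g ∈ B ⊓ MulAction.stabilizer (Equiv.Perm Pt) q :=
    ⟨hgA, by rw [hqB]; exact hB⟩
  rw [Subgroup.eq_bot_of_card_eq _ hC, Subgroup.mem_bot, ← map_one hom] at hg1
  exact card_H.2 hg1

/-- Three points in one number. -/
def pack3 (a b c : ℕ) : ℕ := a + 131072 * b + 17179869184 * c

/-- The key of the identity. -/
noncomputable def base : ℕ := pack3 0 (Rep.oAPt 0) (Rep.oBPt 0)

/-- Push three points along a word. -/
noncomputable def run (k : ℕ) (W : List ℕ) : ℕ :=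
  forceNat k fun k => forceNat (Rep.go W (k % 131072)) fun a =>
    forceNat (Rep.go W (k / 131072 % 131072)) fun b =>
      forceNat (Rep.go W (k / 17179869184)) fun c => pack3 a b c

/-- The key of an element. -/
noncomputable def key (g : Gp) : ℕ :=
  pack3 ((hom g)⁻¹ 0 : Pt) ((hom g)⁻¹ ptA : Pt) ((hom g)⁻¹ ptB : Pt)

theorem key_one : key 1 = base := by
  rw [key, map_one, inv_one]
  rfl

theorem key_inj {g h : Gp} (e : key g = key h) : g = h := by
  unfold key pack3 at e
  have := (((hom g)⁻¹ 0 : Pt)).2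
  have := (((hom h)⁻¹ 0 : Pt)).2
  have := (((hom g)⁻¹ ptA : Pt)).2
  have := (((hom h)⁻¹ ptA : Pt)).2
  have e0 : (hom g)⁻¹ 0 = (hom h)⁻¹ 0 := Fin.ext (by omega)
  have eA : (hom g)⁻¹ ptA = (hom h)⁻¹ ptA := Fin.ext (by omega)
  have eB : (hom g)⁻¹ ptB = (hom h)⁻¹ ptB := Fin.ext (by omega)
  have hfix : ∀ x : Pt, (hom g)⁻¹ x = (hom h)⁻¹ x → hom (g * h⁻¹) x = x := by
    intro x hx
    rw [map_mul, map_inv, Equiv.Perm.mul_apply, ← hx]
    exact Equiv.apply_symm_apply (hom g) x
  exact mul_inv_eq_one.mp (faithful3 (hfix _ e0) (hfix _ eA) (hfix _ eB))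

theorem run_key (g : Gp) {W : List ℕ} (hW : ∀ l ∈ W, l < 8) :
    run (key g) W = key (g * evalWord val W) := by
  have := (((hom g)⁻¹ 0 : Pt)).2
  have := (((hom g)⁻¹ ptA : Pt)).2
  simp only [run, forceNat_eq, key, map_mul, mul_inv_rev, Equiv.Perm.mul_apply, hom_go hW]
  congr 1 <;> congr 1 <;> unfold pack3 <;> omega

theorem run_base {W : List ℕ} (hW : ∀ l ∈ W, l < 8) : run base W = key (evalWord val W) := by
  rw [← key_one, run_key 1 hW, one_mul]

end Cfsg.Agent.CosetEnum.ON.Sub
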